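import Cfsg.Agent.Blk.Orth2
import Cfsg.Agent.Char.Galois
import Mathlib.FieldTheory.Galois.Infinite
import Mathlib.FieldTheory.AlgebraicClosure

/-!
# Galois action and blocks
-/

set_option autoImplicit false
set_option linter.style.haveILetI false
set_option linter.unusedSectionVars false

namespace Cfsg.Agent.Blk

open scoped ComplexConjugate
open Cfsg Cfsg.Agent.CharBase Cardinal

universe u v

/-- An algebraic number fixed by all automorphisms of `ℂ` over a countable field `F` lies in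
`F`. -/
theorem mem_of_fixed_by_aut (F : IntermediateField ℚ ℂ) (hF : #F ≤ ℵ₀) {z : ℂ}
    (hz : IsAlgebraic F z) (h : ∀ σ : ℂ ≃+* ℂ, (∀ x ∈ F, σ x = x) → σ z = z) : z ∈ F := by
  let A := algebraicClosure F ℂ
  have hzA : z ∈ A := by
    rw [mem_algebraicClosure_iff]; exact hz
  have halg : Algebra.IsAlgebraic F A := inferInstance
  have hcl : IsAlgClosure F A := inferInstance
  have hgal : IsGalois F A := IsAlgClosure.isGalois F A
  have hcard : #A ≤ ℵ₀ := by
    have h1 := Algebra.IsAlgebraic.cardinalMk_le_max F A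
    exact h1.trans (max_le hF le_rfl)
  have hbot : (⟨z, hzA⟩ : A) ∈ (⊥ : IntermediateField F A) := by
    rw [InfiniteGalois.mem_bot_iff_fixed]
    intro τ
    obtain ⟨σ, hσ⟩ := Char.exists_aut_complex hcard (A.val : A →+* ℂ)
      ((A.val : A →+* ℂ).comp (τ.toRingEquiv : A →+* A))
    have h1 : σ z = z := by
      refine h σ fun x hx => ?_
      have h2 : σ ((algebraMap F A ⟨x, hx⟩ : A) : ℂ) =
        ((τ (algebraMap F A ⟨x, hx⟩) : A) : ℂ) := hσ (algebraMap F A ⟨x, hx⟩)
      rw [τ.commutes] at h2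
      exact h2
    have h2 := hσ ⟨z, hzA⟩
    have h3 : σ z = ((τ ⟨z, hzA⟩ : A) : ℂ) := h2
    rw [h1] at h3
    exact Subtype.ext h3.symm
  obtain ⟨x, hx⟩ := IntermediateField.mem_bot.mp hbot
  have h4 : (x : ℂ) = z := congrArg Subtype.val hx
  rw [← h4]
  exact x.2

section

variable {G : Type u} [Group G] [Fintype G] {M : Ideal AlgInt} {p : ℕ}

/-- the Galois conjugate of an irreducible character -/
noncomputable def irrGal (σ : ℂ ≃+* ℂ) (χ : IrrCharacter G) : IrrCharacter G :=
  ⟨fun g => σ ((χ : G → ℂ) g), Char.isIrrCharacter_map σ χ.2⟩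

theorem irrGal_injective (σ : ℂ ≃+* ℂ) : Function.Injective (irrGal (G := G) σ) := by
  intro χ ψ h
  apply Subtype.ext
  funext g
  have := congrFun (congrArg Subtype.val h) g
  exact σ.injective this

theorem irrGal_apply_of_regular {σ : ℂ ≃+* ℂ} {m : ℕ} (hσ : ∀ ζ : ℂ, ζ ^ m = 1 → σ ζ = ζ)
    (χ : IrrCharacter G) {g : G} (hg : orderOf g ∣ m) :
    ((irrGal σ χ : IrrCharacter G) : G → ℂ) g = (χ : G → ℂ) g := by
  have h1 := Char.map_char_eq (irr_isCharacter χ) g hg σ (k := 1)
    (fun ζ hζ => by rw [hσ ζ hζ, pow_one])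
  rw [pow_one] at h1
  exact h1

/-- Automorphisms fixing the `p'`-roots of unity stabilize the blocks. -/
theorem irrGal_mem (hM : IsPModular p M) {B : Set (IrrCharacter G)} (hB : IsPBlock M B)
    {σ : ℂ ≃+* ℂ} (hσ : ∀ ζ : ℂ, ζ ^ (Nat.card G / p ^ (Nat.card G).factorization p) = 1 → σ ζ = ζ)
    {χ : IrrCharacter G} (hχ : χ ∈ B) : irrGal σ χ ∈ B := by
  classical
  by_contra hcon
  have h1 := sum_regular_eq_zero hM hB hχ hcon
  have hp := hM.1
  have h2 : ∀ x : G, (if p ∣ orderOf x then (0 : ℂ) else (χ : G → ℂ) x *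
      conj (((irrGal σ χ : IrrCharacter G) : G → ℂ) x)) =
      ((if p ∣ orderOf x then (0 : ℝ) else Complex.normSq ((χ : G → ℂ) x) : ℝ) : ℂ) := by
    intro x
    split_ifs with hx
    · simp
    · rw [irrGal_apply_of_regular hσ, Complex.mul_conj]
      -- `orderOf x` divides the `p'`-part
      have h3 : orderOf x ∣ Nat.card G := orderOf_dvd_natCard x
      have h4 : p ^ (Nat.card G).factorization p *
          (Nat.card G / p ^ (Nat.card G).factorization p) = Nat.card G :=
        Nat.ordProj_mul_ordCompl_eq_self _ _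
      rw [← h4] at h3
      exact (Nat.Coprime.pow_right _ ((hp.coprime_iff_not_dvd).2 hx).symm).dvd_of_dvd_mul_left h3
  rw [Finset.sum_congr rfl (fun x _ => h2 x), ← Complex.ofReal_sum, Complex.ofReal_eq_zero] at h1
  have h5 := (Finset.sum_eq_zero_iff_of_nonneg (fun x _ => by
    split_ifs
    · exact le_rfl
    · exact Complex.normSq_nonneg _)).1 h1 1 (Finset.mem_univ _)
  rw [orderOf_one, if_neg (by exact hp.one_lt.ne' ∘ Nat.dvd_one.1)] at h5
  exact irr_one_ne_zero χ.2 (Complex.normSq_eq_zero.1 h5)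

theorem blockCoeff_fixed (hM : IsPModular p M) {B : Set (IrrCharacter G)} (hB : IsPBlock M B)
    {σ : ℂ ≃+* ℂ} (hσ : ∀ ζ : ℂ, ζ ^ (Nat.card G / p ^ (Nat.card G).factorization p) = 1 → σ ζ = ζ)
    (g : G) : σ (blockCoeff B g) = blockCoeff B g := by
  classical
  have hfin : Finite (IrrCharacter G) := inferInstance
  have himg : irrGal σ '' B = B := by
    refine Set.eq_of_subset_of_ncard_le ?_ ?_ (Set.toFinite _)
    · rintro _ ⟨χ, hχ, rfl⟩; exact irrGal_mem hM hB hσ hχ
    · rw [Set.ncard_image_of_injective _ (irrGal_injective σ)]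
  unfold blockCoeff
  rw [map_mul, map_inv₀, map_natCast]
  congr 1
  have h1 : ∑ᶠ χ ∈ irrGal σ '' B, (χ : G → ℂ) 1 * conj ((χ : G → ℂ) g) =
      ∑ᶠ χ ∈ B, ((irrGal σ χ : IrrCharacter G) : G → ℂ) 1 *
        conj (((irrGal σ χ : IrrCharacter G) : G → ℂ) g) :=
    finsum_mem_image (irrGal_injective σ).injOn
  rw [himg] at h1
  have h2 := (σ : ℂ →+ ℂ).map_finsum_mem
    (fun χ : IrrCharacter G => (χ : G → ℂ) 1 * conj ((χ : G → ℂ) g)) (Set.toFinite B)
  have h3 : σ (∑ᶠ χ ∈ B, (χ : G → ℂ) 1 * conj ((χ : G → ℂ) g)) =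
      ∑ᶠ χ ∈ B, σ ((χ : G → ℂ) 1 * conj ((χ : G → ℂ) g)) := h2
  rw [h3, h1]
  refine finsum_mem_congr rfl fun χ _ => ?_
  rw [map_mul]
  congr 1
  rw [← irr_inv, ← irr_inv]
  rfl

/-- S4664 -/
theorem blockCoeff_mem_adjoin (hM : IsPModular p M) {B : Set (IrrCharacter G)}
    (hB : IsPBlock M B) (g : G) :
    blockCoeff B g ∈ IntermediateField.adjoin ℚ ({Complex.exp (2 * Real.pi * Complex.I /
      ((Nat.card G / p ^ (Nat.card G).factorization p : ℕ) : ℂ))} : Set ℂ) := by
  classical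
  set m := Nat.card G / p ^ (Nat.card G).factorization p with hm
  have hm0 : m ≠ 0 := by
    have : p ^ (Nat.card G).factorization p * m = Nat.card G :=
      Nat.ordProj_mul_ordCompl_eq_self _ _
    rintro h
    rw [h, mul_zero] at this
    exact Nat.card_pos.ne' this.symm
  set η := Complex.exp (2 * Real.pi * Complex.I / (m : ℂ)) with hη
  have hprim : IsPrimitiveRoot η m := Complex.isPrimitiveRoot_exp m hm0
  set F := IntermediateField.adjoin ℚ ({η} : Set ℂ) with hF
  have hηF : η ∈ F := IntermediateField.mem_adjoin_simple_self ℚ η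
  have hint : IsIntegral ℚ η := (hprim.isIntegral (Nat.pos_of_ne_zero hm0)).tower_top
  have hfd : FiniteDimensional ℚ F := IntermediateField.adjoin.finiteDimensional hint
  have hcard : #F ≤ ℵ₀ := by
    have : Algebra.IsAlgebraic ℚ F := Algebra.IsAlgebraic.of_finite ℚ F
    have h1 := Algebra.IsAlgebraic.cardinalMk_le_max ℚ F
    rwa [Cardinal.mk_eq_aleph0 ℚ, max_self] at h1
  refine mem_of_fixed_by_aut F hcard ?_ ?_
  · -- algebraic
    have hint2 : IsIntegral ℤ ((Nat.card G : ℂ) * blockCoeff B g) := by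
      unfold blockCoeff
      rw [← mul_assoc, mul_inv_cancel₀ (by exact_mod_cast Nat.card_pos.ne'), one_mul]
      have := Fintype.ofFinite (IrrCharacter G)
      rw [finsum_mem_eq_sum_ite]
      refine IsIntegral.sum _ fun χ _ => ?_
      split_ifs
      · rw [← irr_inv]
        exact (irr_isIntegral χ 1).mul (irr_isIntegral χ _)
      · exact isIntegral_zero
    have h1 : IsAlgebraic F ((Nat.card G : ℂ) * blockCoeff B g) :=
      (hint2.tower_top (A := ℚ)).tower_top.isAlgebraic
    have h2 : blockCoeff B g = (Nat.card G : ℂ)⁻¹ * ((Nat.card G : ℂ) * blockCoeff B g) := by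
      rw [← mul_assoc, inv_mul_cancel₀ (by exact_mod_cast Nat.card_pos.ne'), one_mul]
    rw [h2]
    refine IsAlgebraic.mul ?_ h1
    exact (isAlgebraic_natCast (R := F) (A := ℂ) (Nat.card G)).inv
  · intro σ hσ
    refine blockCoeff_fixed hM hB (fun ζ hζ => ?_) g
    haveI : NeZero m := ⟨hm0⟩
    obtain ⟨i, -, rfl⟩ := hprim.eq_pow_of_pow_eq_one hζ
    rw [map_pow, hσ η hηF]

end

end Cfsg.Agent.Blk
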